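import Groth.Prelude.Def_Exal
import Mathlib

/-!
# Extensions of quotients of power series rings by modules killed by the variables
-/

universe u

noncomputable section

namespace Groth.Agent.Exal29

open MvPowerSeries

theorem exists_expansion {R : Type u} [CommRing R] : ∀ {n : ℕ} (f : MvPowerSeries (Fin n) R),
    ∃ g : Fin n → MvPowerSeries (Fin n) R, f = C (constantCoeff f) + ∑ i, X i * g i
  | 0, f => ⟨0, MvPowerSeries.ext fun e => by
      classical
      rw [Subsingleton.elim e 0, Finset.univ_eq_empty, Finset.sum_empty, add_zero, coeff_zero_C,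
        coeff_zero_eq_constantCoeff_apply]⟩
  | n + 1, f => by
    let Φ := finSuccEquiv R n
    obtain ⟨g, hg⟩ := exists_expansion (PowerSeries.coeff 0 (Φ f))
    obtain ⟨H, hH⟩ : ∃ H, Φ f = PowerSeries.C (PowerSeries.coeff 0 (Φ f)) + PowerSeries.X * H := by
      obtain ⟨H, hH⟩ := (PowerSeries.X_dvd_iff (φ := Φ f - PowerSeries.C (PowerSeries.coeff 0 (Φ f)))).2 (by simp)
      exact ⟨H, by rw [← hH, add_sub_cancel]⟩
    have hc : constantCoeff (PowerSeries.coeff 0 (Φ f)) = constantCoeff f := by
      rw [← coeff_zero_eq_constantCoeff_apply, coeff_coeff_finSuccEquiv, Finsupp.cons_zero_zero,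
        coeff_zero_eq_constantCoeff_apply]
    refine ⟨Fin.cons (Φ.symm H) fun i => Φ.symm (PowerSeries.C (g i)), Φ.injective ?_⟩
    rw [map_add, finSuccEquiv_C, map_sum, Fin.sum_univ_succ]
    simp only [Fin.cons_zero, Fin.cons_succ, map_mul, Φ, AlgEquiv.apply_symm_apply, finSuccEquiv_X_zero,
      finSuccEquiv_X_succ]
    conv_lhs => rw [hH, hg, hc]
    simp only [map_add, map_sum, map_mul]
    abel

theorem exists_syzygy {R : Type u} [CommRing R] : ∀ {n : ℕ} (g : Fin n → MvPowerSeries (Fin n) R),
    ∑ i, X i * g i = 0 → ∃ d : Fin n → Fin n → MvPowerSeries (Fin n) R, ∀ i, g i = ∑ j, X j * (d i j - d j i)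
  | 0, g, _ => ⟨fun i => i.elim0, fun i => i.elim0⟩
  | n + 1, g, h => by
    let Φ := finSuccEquiv R n
    have h' : PowerSeries.X * Φ (g 0) + ∑ i : Fin n, PowerSeries.C (X i) * Φ (g i.succ) = 0 := by
      have := congrArg Φ h
      rw [map_zero, map_sum, Fin.sum_univ_succ] at this
      simpa only [Φ, map_mul, finSuccEquiv_X_zero, finSuccEquiv_X_succ] using this
    obtain ⟨d, hd⟩ := exists_syzygy (fun i : Fin n => PowerSeries.coeff 0 (Φ (g i.succ))) (by
      have := congrArg (PowerSeries.coeff 0) h'
      simpa [map_sum] using this)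
    have hex : ∀ i : Fin n, ∃ H, Φ (g i.succ) = PowerSeries.C (PowerSeries.coeff 0 (Φ (g i.succ))) + PowerSeries.X * H := fun i => by
      obtain ⟨H, hH⟩ := (PowerSeries.X_dvd_iff (φ := Φ (g i.succ) - PowerSeries.C (PowerSeries.coeff 0 (Φ (g i.succ))))).2 (by simp)
      exact ⟨H, by rw [← hH, add_sub_cancel]⟩
    choose H hH using hex
    have hsum : ∑ i : Fin n, PowerSeries.C (X i) * PowerSeries.C (PowerSeries.coeff 0 (Φ (g i.succ))) = 0 := by
      rw [← map_zero PowerSeries.C]
      have := congrArg (PowerSeries.coeff 0) h'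
      simp only [map_add, map_sum, map_zero, PowerSeries.coeff_zero_X_mul, zero_add, PowerSeries.coeff_C_mul] at this
      simp only [← map_mul, ← map_sum]
      exact congrArg _ this
    have h0 : Φ (g 0) + ∑ i : Fin n, PowerSeries.C (X i) * H i = 0 := by
      apply PowerSeries.X_mul_cancel
      rw [mul_zero, mul_add, Finset.mul_sum]
      refine Eq.trans ?_ h'
      congr 1
      rw [← sub_eq_zero, ← Finset.sum_sub_distrib, ← neg_eq_zero, ← hsum, ← Finset.sum_neg_distrib]
      refine Finset.sum_congr rfl fun i _ => ?_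
      conv_lhs => rw [hH i]
      ring
    refine ⟨Fin.cons (fun _ => 0) fun i => Fin.cons (Φ.symm (H i)) fun j => Φ.symm (PowerSeries.C (d i j)),
      Fin.cases ?_ fun i => ?_⟩
    · apply Φ.injective
      rw [Fin.sum_univ_succ]
      simp only [Φ, Fin.cons_zero, Fin.cons_succ, sub_self, mul_zero, zero_add, zero_sub, map_sum, map_mul,
        map_neg, AlgEquiv.apply_symm_apply, finSuccEquiv_X_succ, mul_neg, Finset.sum_neg_distrib]
      exact eq_neg_of_add_eq_zero_left h0
    · apply Φ.injective
      rw [Fin.sum_univ_succ]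
      simp only [Φ, Fin.cons_zero, Fin.cons_succ, sub_zero, map_add, map_sum, map_mul, map_sub,
        AlgEquiv.apply_symm_apply, finSuccEquiv_X_succ, finSuccEquiv_X_zero]
      conv_lhs => rw [hH i, hd i]
      simp only [map_sum, map_mul, map_sub]
      abel

variable {Λ : Type u} [CommRing Λ] {n : ℕ} {B L : Type u} [CommRing B] [Algebra Λ B] [AddCommGroup L] [Module B L]

theorem incl_mul_incl (E : Exal.Ext Λ B L) (z w : L) : E.incl z * E.incl w = 0 := by
  rw [E.isExtension.mul_incl, (E.isExtension.exact _).2 ⟨z, rfl⟩, zero_smul, map_zero]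

theorem mul_congr_of_kills (E : Exal.Ext Λ B L) {a y y' : E.E} (ha : ∀ z : L, E.proj a • z = 0)
    (h : E.proj y = E.proj y') : a * y = a * y' := by
  obtain ⟨z, hz⟩ := (E.isExtension.exact (y - y')).1 (by rw [map_sub, h, sub_self])
  rw [← sub_eq_zero, ← mul_sub, ← hz, E.isExtension.mul_incl, ha, map_zero]

/-- A map from a power series ring lifts to an extension by a module killed by the images of the variables. -/
theorem exists_lift (q : MvPowerSeries (Fin n) Λ →ₐ[Λ] B) (hL : ∀ i (z : L), q (X i) • z = 0)
    (E : Exal.Ext Λ B L) : ∃ u : MvPowerSeries (Fin n) Λ →ₐ[Λ] E.E, ∀ p, E.proj (u p) = q p := by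
  classical
  choose a ha using fun i => E.isExtension.proj_surjective (q (X i))
  choose sec hsec using E.isExtension.proj_surjective
  choose G hG using exists_expansion (R := Λ) (n := n)
  have hk : ∀ i (z : L), E.proj (a i) • z = 0 := fun i z => by rw [ha]; exact hL i z
  let F : MvPowerSeries (Fin n) Λ → E.E := fun f =>
    algebraMap Λ E.E (constantCoeff f) + ∑ i, a i * sec (q (G f i))
  have hC : ∀ c, q (C c) = algebraMap Λ B c := fun c => q.commutes c
  have key : ∀ (c : Λ) (g : Fin n → MvPowerSeries (Fin n) Λ) (y : Fin n → E.E), (∀ i, E.proj (y i) = q (g i)) →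
      F (C c + ∑ i, X i * g i) = algebraMap Λ E.E c + ∑ i, a i * y i := by
    intro c g y hy
    let f := C c + ∑ i, X i * g i
    have hc : constantCoeff f = c := by simp [f, map_sum]
    have hs : ∑ i, X i * (G f i - g i) = 0 := by
      have h := hG f
      rw [hc] at h
      simp only [mul_sub, Finset.sum_sub_distrib]
      rw [sub_eq_zero]
      exact add_left_cancel h.symm
    obtain ⟨d, hd⟩ := exists_syzygy _ hs
    show algebraMap Λ E.E (constantCoeff f) + ∑ i, a i * sec (q (G f i)) = _
    rw [hc]
    congr 1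
    rw [← sub_eq_zero, ← Finset.sum_sub_distrib]
    have : ∀ i, a i * sec (q (G f i)) - a i * y i = ∑ j, a i * (a j * (sec (q (d i j)) - sec (q (d j i)))) := fun i => by
      rw [← mul_sub, ← Finset.mul_sum]
      refine mul_congr_of_kills E (hk i) ?_
      rw [map_sub, hsec, hy, ← map_sub, hd i, map_sum, map_sum]
      simp only [map_mul, map_sub, hsec, ha]
    rw [Finset.sum_congr rfl fun i _ => this i]
    simp only [mul_sub, Finset.sum_sub_distrib, sub_eq_zero]
    rw [Finset.sum_comm]
    exact Finset.sum_congr rfl fun i _ => Finset.sum_congr rfl fun j _ => by ring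
  have hexp : ∀ f, E.proj (F f) = q f := fun f => by
    conv_rhs => rw [hG f]
    simp only [F, map_add, map_sum, map_mul, AlgHom.commutes, ha, hsec, hC]
  have hcomm : ∀ c, F (C c) = algebraMap Λ E.E c := fun c => by
    have := key c 0 0 (fun i => by simp)
    simpa using this
  refine ⟨{ toFun := F, map_one' := ?_, map_mul' := ?_, map_zero' := ?_, map_add' := ?_, commutes' := hcomm }, hexp⟩
  · rw [show (1 : MvPowerSeries (Fin n) Λ) = C 1 from (map_one C).symm, hcomm, map_one]
  · intro f h
    let c := constantCoeff f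
    let c' := constantCoeff h
    let S : E.E := ∑ j, a j * sec (q (G h j))
    let T : MvPowerSeries (Fin n) Λ := ∑ j, X j * G h j
    have e : f * h = C (c * c') + ∑ i, X i * (C c * G h i + C c' * G f i + G f i * T) := by
      rw [Finset.sum_congr rfl fun i _ => show X i * (C c * G h i + C c' * G f i + G f i * T) =
        C c * (X i * G h i) + C c' * (X i * G f i) + (X i * G f i) * T by ring]
      simp only [Finset.sum_add_distrib, ← Finset.mul_sum, ← Finset.sum_mul, map_mul]
      conv_lhs => rw [hG f, hG h]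
      simp only [T, c, c']
      ring
    rw [e, key (c * c') _ (fun i => algebraMap Λ E.E c * sec (q (G h i)) + algebraMap Λ E.E c' * sec (q (G f i)) +
      sec (q (G f i)) * S) fun i => by simp only [S, T, map_add, map_mul, map_sum, AlgHom.commutes, hsec, ha, hC]]
    show _ = (algebraMap Λ E.E c + ∑ i, a i * sec (q (G f i))) * (algebraMap Λ E.E c' + S)
    rw [Finset.sum_congr rfl fun i _ => show a i * (algebraMap Λ E.E c * sec (q (G h i)) +
      algebraMap Λ E.E c' * sec (q (G f i)) + sec (q (G f i)) * S) = algebraMap Λ E.E c * (a i * sec (q (G h i))) +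
        algebraMap Λ E.E c' * (a i * sec (q (G f i))) + (a i * sec (q (G f i))) * S by ring]
    simp only [Finset.sum_add_distrib, ← Finset.mul_sum, ← Finset.sum_mul, map_mul]
    simp only [S]
    ring
  · rw [show (0 : MvPowerSeries (Fin n) Λ) = C 0 from (map_zero C).symm, hcomm, map_zero]
  · intro f h
    have e : f + h = C (constantCoeff f + constantCoeff h) + ∑ i, X i * (G f i + G h i) := by
      conv_lhs => rw [hG f, hG h]
      simp only [map_add, mul_add, Finset.sum_add_distrib]
      abel
    rw [e, key _ _ (fun i => sec (q (G f i)) + sec (q (G h i))) fun i => by rw [map_add, hsec, hsec, map_add]]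
    simp only [F, map_add, mul_add, Finset.sum_add_distrib]
    abel

/-- Two lifts agree on the square of the ideal of the variables. -/
theorem lift_eq_on_sq (q : MvPowerSeries (Fin n) Λ →ₐ[Λ] B) (hL : ∀ i (z : L), q (X i) • z = 0)
    (E : Exal.Ext Λ B L) (u u' : MvPowerSeries (Fin n) Λ →ₐ[Λ] E.E) (hu : ∀ p, E.proj (u p) = q p)
    (hu' : ∀ p, E.proj (u' p) = q p) :
    ∀ j ∈ Ideal.span (Set.range (X : Fin n → MvPowerSeries (Fin n) Λ)) ^ 2, u j = u' j := by
  have hI : ∀ p ∈ Ideal.span (Set.range (X : Fin n → MvPowerSeries (Fin n) Λ)), ∀ z : L, q p • z = 0 := by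
    intro p hp
    induction hp using Submodule.span_induction with
    | mem x hx => obtain ⟨i, rfl⟩ := hx; exact hL i
    | zero => simp
    | add x y _ _ hx hy => intro z; rw [map_add, add_smul, hx, hy, add_zero]
    | smul c x _ hx => intro z; rw [smul_eq_mul, map_mul, mul_smul, hx, smul_zero]
  rw [pow_two]
  intro j hj
  induction hj using Submodule.mul_induction_on' with
  | mem_mul_mem x hx y hy =>
    rw [map_mul, map_mul]
    calc u x * u y = u x * u' y := mul_congr_of_kills E (fun z => by rw [hu]; exact hI x hx z) (by rw [hu, hu'])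
      _ = u' y * u x := mul_comm _ _
      _ = u' y * u' x := mul_congr_of_kills E (fun z => by rw [hu']; exact hI y hy z) (by rw [hu, hu'])
      _ = u' x * u' y := mul_comm _ _
  | add x _ y _ hx hy => rw [map_add, map_add, hx, hy]

end Groth.Agent.Exal29
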