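import Mathlib

/-!
# The conormal map of a square-zero extension of a generically smooth algebra
-/

universe u v w

noncomputable section

namespace Groth.Agent.Exal29

open TensorProduct

/-- At a smooth prime an element of the kernel of the conormal map of a square-zero extension dies. -/
theorem exists_smul_eq_zero {A : Type u} {B : Type v} [CommRing A] [CommRing B] [Algebra A B]
    (P : Algebra.Extension.{w} A B) (hsq : P.ker ^ 2 = ⊥) (p : Ideal B) [p.IsPrime]
    [Algebra.FormallySmooth A (Localization.AtPrime p)] (x : P.Cotangent) (hx : P.cotangentComplex x = 0) :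
    ∃ t ∉ p, t • x = 0 := by
  let E := P.Ring
  let g : E →+* B := algebraMap P.Ring B
  have hg : Function.Surjective g := P.algebraMap_surjective
  let q : Ideal E := p.comap g
  let Eq := Localization.AtPrime q
  let Bp := Localization.AtPrime p
  let π₀ : Eq →+* Bp := Localization.localRingHom q p g rfl
  have hπto : ∀ e : E, π₀ (algebraMap E Eq e) = algebraMap B Bp (g e) := fun e =>
    Localization.localRingHom_to_map _ _ _ _ e
  let π : Eq →ₐ[A] Bp :=
    { toRingHom := π₀
      commutes' := fun a => by
        show π₀ (algebraMap A Eq a) = algebraMap A Bp a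
        rw [IsScalarTower.algebraMap_apply A E Eq, hπto, IsScalarTower.algebraMap_apply A B Bp]
        exact congrArg _ (IsScalarTower.algebraMap_apply A P.Ring B a).symm }
  have hπ : Function.Surjective π := by
    intro y
    obtain ⟨b, ⟨s, hs⟩, rfl⟩ := IsLocalization.exists_mk'_eq p.primeCompl y
    obtain ⟨a, rfl⟩ := hg b
    obtain ⟨t, rfl⟩ := hg s
    exact ⟨IsLocalization.mk' (M := q.primeCompl) Eq a ⟨t, hs⟩,
      Localization.localRingHom_mk' _ _ g rfl a ⟨t, hs⟩⟩
  have hker : RingHom.ker (π : Eq →+* Bp) ≤ P.ker.map (algebraMap E Eq) := by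
    intro y hy
    obtain ⟨a, s, rfl⟩ := IsLocalization.exists_mk'_eq q.primeCompl y
    have hy' : π₀ (IsLocalization.mk' Eq a s) = 0 := hy
    rw [Localization.localRingHom_mk', IsLocalization.mk'_eq_zero_iff] at hy'
    obtain ⟨⟨b, hb⟩, hab⟩ := hy'
    obtain ⟨t, rfl⟩ := hg b
    rw [IsLocalization.mk'_mem_map_algebraMap_iff]
    exact ⟨t, hb, by show g (t * a) = 0; rw [map_mul]; exact hab⟩
  have hsq' : ∀ y z, π y = 0 → π z = 0 → y * z = 0 := fun y z hy hz => by
    have h := Ideal.mul_mem_mul (hker hy) (hker hz)
    rwa [← Ideal.map_mul, ← pow_two, hsq, Ideal.map_bot, Ideal.mem_bot] at h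
  have hnil : IsNilpotent (RingHom.ker (π : Eq →+* Bp)) := ⟨2, by
    rw [pow_two, eq_bot_iff.2 (Ideal.mul_le.2 fun y hy z hz => Ideal.mem_bot.2 (hsq' y z hy hz))]; rfl⟩
  let σ : Bp →ₐ[A] Eq := Algebra.FormallySmooth.liftOfSurjective (AlgHom.id A Bp) π hπ hnil
  have hσ : ∀ y, π (σ y) = y := fun y => Algebra.FormallySmooth.liftOfSurjective_apply _ _ hπ hnil y
  let s : E → Eq := fun e => σ (algebraMap B Bp (g e))
  let δf : E → Eq := fun e => algebraMap E Eq e - s e
  have hδπ : ∀ e, π (δf e) = 0 := fun e => by
    rw [map_sub, hσ]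
    exact sub_eq_zero.2 (hπto e)
  let δ : Derivation A E Eq :=
    { toFun := δf
      map_add' := fun a b => by simp only [δf, s, map_add]; ring
      map_smul' := fun c a => by
        show algebraMap E Eq (c • a) - σ (algebraMap B Bp (g (c • a))) = c • (algebraMap E Eq a - s a)
        rw [Algebra.smul_def, Algebra.smul_def, map_mul, map_mul g, map_mul, map_mul σ,
          ← IsScalarTower.algebraMap_apply A E Eq,
          show g (algebraMap A E c) = algebraMap A B c from (IsScalarTower.algebraMap_apply A P.Ring B c).symm,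
          ← IsScalarTower.algebraMap_apply A B Bp, σ.commutes, mul_sub]
      map_one_eq_zero' := by
        show δf 1 = 0
        simp [δf, s]
      leibniz' := fun a b => by
        show δf (a * b) = a • δf b + b • δf a
        rw [Algebra.smul_def, Algebra.smul_def]
        have := hsq' _ _ (hδπ a) (hδπ b)
        simp only [δf, s, map_mul] at this ⊢
        linear_combination (-1 : Eq) * this }
  let ℓ := δ.liftKaehlerDifferential
  have hℓ : ∀ ω, π (ℓ ω) = 0 := fun ω => by
    have hω : ω ∈ Submodule.span E (Set.range (KaehlerDifferential.D A E)) := by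
      rw [KaehlerDifferential.span_range_derivation]; trivial
    induction hω using Submodule.span_induction with
    | mem z hz =>
      obtain ⟨e, rfl⟩ := hz
      rw [show ℓ (KaehlerDifferential.D A E e) = δ e from δ.liftKaehlerDifferential_comp_D e]
      exact hδπ e
    | zero => rw [map_zero, map_zero]
    | add y z _ _ hy hz => rw [map_add, map_add, hy, hz, add_zero]
    | smul c z _ hz => rw [map_smul, Algebra.smul_def, map_mul, hz, mul_zero]
  let L : B ⊗[E] Ω[E⁄A] →+ Eq := TensorProduct.liftAddHom
    { toFun := fun b =>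
        { toFun := fun ω => σ (algebraMap B Bp b) * ℓ ω
          map_zero' := by rw [map_zero, mul_zero]
          map_add' := fun y z => by rw [map_add, mul_add] }
      map_zero' := by ext ω; simp
      map_add' := fun b c => by ext ω; simp [add_mul] }
    (fun c b ω => by
      show σ (algebraMap B Bp (c • b)) * ℓ ω = σ (algebraMap B Bp b) * ℓ (c • ω)
      rw [map_smul ℓ, Algebra.smul_def c b, Algebra.smul_def c (ℓ ω), map_mul, map_mul]
      have := hsq' _ _ (hδπ c) (hℓ ω)
      simp only [δf, s] at this
      show σ (algebraMap B Bp (g c)) * σ (algebraMap B Bp b) * ℓ ω = _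
      linear_combination (-(σ (algebraMap B Bp b))) * this)
  obtain ⟨i, rfl⟩ := Algebra.Extension.Cotangent.mk_surjective x
  rw [Algebra.Extension.cotangentComplex_mk] at hx
  have h := congrArg L hx
  rw [map_zero] at h
  have h' : σ (algebraMap B Bp 1) * ℓ (KaehlerDifferential.D A E i) = 0 := h
  rw [map_one, map_one, one_mul, show ℓ (KaehlerDifferential.D A E i) = δ i from δ.liftKaehlerDifferential_comp_D _] at h'
  have hi : algebraMap E Eq (i : E) = 0 := by
    have h0 : s (i : E) = 0 := by
      show σ (algebraMap B Bp (g i)) = 0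
      rw [show g (i : E) = 0 from i.2, map_zero, map_zero]
    have h1 : δf (i : E) = 0 := h'
    simp only [δf, h0, sub_zero] at h1
    exact h1
  obtain ⟨⟨t, ht⟩, hti⟩ := (IsLocalization.map_eq_zero_iff q.primeCompl Eq _).1 hi
  refine ⟨g t, ht, ?_⟩
  show algebraMap P.Ring B t • Algebra.Extension.Cotangent.mk i = 0
  rw [algebraMap_smul, ← map_smul, show t • i = (0 : P.ker) from Subtype.ext hti, map_zero]

/-- For a reduced algebra smooth at all minimal primes, the conormal map of a square-zero extension by a
projective module is injective. -/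
theorem injective_cotangentComplex {A : Type u} {B : Type v} [CommRing A] [CommRing B] [Algebra A B] [IsReduced B]
    (hsm : ∀ p : PrimeSpectrum B, p.asIdeal ∈ minimalPrimes B → Algebra.IsSmoothAt A p.asIdeal)
    (P : Algebra.Extension.{w} A B) (hsq : P.ker ^ 2 = ⊥) [Module.Projective B P.Cotangent] :
    Function.Injective P.cotangentComplex := by
  rw [injective_iff_map_eq_zero]
  intro x hx
  refine (Module.forall_dual_apply_eq_zero_iff B x).1 fun f => ?_
  refine IsNilpotent.eq_zero (mem_nilradical.1 ?_)
  rw [nilradical, Ideal.zero_eq_bot, ← Ideal.sInf_minimalPrimes]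
  refine Ideal.mem_sInf.2 fun {p} hp => ?_
  have : p.IsPrime := hp.1.1
  have : Algebra.FormallySmooth A (Localization.AtPrime p) := hsm ⟨p, hp.1.1⟩ hp
  obtain ⟨t, ht, htx⟩ := exists_smul_eq_zero P hsq p x hx
  refine (Ideal.IsPrime.mem_or_mem ‹p.IsPrime› ?_).resolve_left ht
  rw [← smul_eq_mul, ← map_smul, htx, map_zero]
  exact zero_mem _

end Groth.Agent.Exal29
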