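import Groth.Agent.CAlgH.AdicSmoothField
import Groth.Agent.CommAlg6.CMFibresComplete
import Mathlib

/-!
# Lifting to finite local algebras detects regularity
-/

universe u

open IsLocalRing

noncomputable section

namespace Groth.Agent.Exal29

open Groth.Agent.CAlgH.AdicSmooth Groth.Agent.CAlgH

/-- Successive lifts modulo the powers of an ideal of an adically complete algebra give a lift. -/
theorem exists_lift_of_steps {k : Type u} [CommRing k] {A R : Type u} [CommRing A] [CommRing R] [Algebra k A]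
    [Algebra k R] (m : Ideal R) [IsAdicComplete m R]
    (step : ∀ (n : ℕ) (f : A →ₐ[k] R ⧸ m ^ (n + 2)), ∃ g : A →ₐ[k] R ⧸ m ^ (n + 3),
      (Ideal.Quotient.factorₐ k (Ideal.pow_le_pow_right (Nat.le_succ (n + 2)))).comp g = f)
    (ψ : A →ₐ[k] R ⧸ m ^ 2) : ∃ χ : A →+* R, (Ideal.Quotient.mk (m ^ 2)).comp χ = ψ.toRingHom := by
  choose next hnext using step
  let f : (n : ℕ) → A →ₐ[k] R ⧸ m ^ (n + 2) := fun n =>
    Nat.rec (motive := fun n => A →ₐ[k] R ⧸ m ^ (n + 2)) ψ (fun n p => next n p) n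
  have hf : ∀ n a, Ideal.Quotient.factor (Ideal.pow_le_pow_right (Nat.le_succ (n + 2))) (f (n + 1) a) = f n a :=
    fun n a => AlgHom.congr_fun (hnext n (f n)) a
  have hfk : ∀ {i j : ℕ} (hij : i ≤ j) (a : A),
      Ideal.Quotient.factor (Ideal.pow_le_pow_right (I := m) (by omega : i + 2 ≤ j + 2)) (f j a) = f i a := by
    intro i j hij a
    induction j, hij using Nat.le_induction with
    | base => obtain ⟨r, hr⟩ := Ideal.Quotient.mk_surjective (f i a); rw [← hr, Ideal.Quotient.factor_mk]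
    | succ j hij ih =>
      rw [← ih, ← hf j a]
      obtain ⟨r, hr⟩ := Ideal.Quotient.mk_surjective (f (j + 1) a)
      rw [← hr, Ideal.Quotient.factor_mk, Ideal.Quotient.factor_mk, Ideal.Quotient.factor_mk]
  let F : (n : ℕ) → A →+* R ⧸ m ^ n := fun n =>
    (Ideal.Quotient.factor (Ideal.pow_le_pow_right (Nat.le_add_right n 2))).comp (f n).toRingHom
  have hF : ∀ {i j : ℕ} (hij : i ≤ j), (Ideal.Quotient.factorPow m hij).comp (F j) = F i := by
    intro i j hij
    refine RingHom.ext fun a => ?_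
    show Ideal.Quotient.factorPow m hij (Ideal.Quotient.factor (Ideal.pow_le_pow_right (I := m) (Nat.le_add_right j 2)) (f j a)) =
      Ideal.Quotient.factor (Ideal.pow_le_pow_right (I := m) (Nat.le_add_right i 2)) (f i a)
    rw [← hfk hij a]
    obtain ⟨r, hr⟩ := Ideal.Quotient.mk_surjective (f j a)
    rw [← hr]
    rfl
  refine ⟨IsAdicComplete.liftRingHom m F hF, RingHom.ext fun a => ?_⟩
  rw [RingHom.comp_apply, IsAdicComplete.mk_liftRingHom]
  exact hfk (Nat.zero_le 2) a

/-- A Noetherian local algebra with residue field `k` (perfect) such that maps to quotients of finite local algebras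
by square-zero ideals lift is regular. -/
theorem isRegularLocalRing_of_artinian_lifts {k : Type u} [Field k] [PerfectField k] {A : Type u} [CommRing A]
    [IsLocalRing A] [IsNoetherianRing A] [Algebra k A] (hres : Function.Surjective (algebraMap k (ResidueField A)))
    (h : ∀ (B' : Type u) [CommRing B'] [IsLocalRing B'] [Algebra k B'] [Module.Finite k B']
      (J : Ideal B'), J ^ 2 = ⊥ → ∀ f : A →ₐ[k] B' ⧸ J, ∃ g : A →ₐ[k] B', (Ideal.Quotient.mkₐ k J).comp g = f) :
    IsRegularLocalRing A := by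
  obtain ⟨d, ψ, hd, hψk, hψs, hψker⟩ := exists_jet (k := k) (A := A)
  let K := ResidueField A
  let R := MvPowerSeries (Fin d) K
  haveI : IsRegularLocalRing R := (isRegularLocalRing_mvPowerSeries K d).1
  haveI : IsAdicComplete (maximalIdeal R) R := by
    rw [CAlgH3.maximalIdeal_mvPowerSeries_eq]; exact isAdicComplete_mvPowerSeries _ _
  let q : (n : ℕ) → R →+* R ⧸ maximalIdeal R ^ n := fun n => Ideal.Quotient.mk _
  have hfin : ∀ n, ∃ _ : IsLocalRing (R ⧸ maximalIdeal R ^ (n + 1)), Module.Finite k (R ⧸ maximalIdeal R ^ (n + 1)) := by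
    intro n
    have hne : maximalIdeal R ^ (n + 1) ≠ ⊤ := fun e =>
      (maximalIdeal.isMaximal R).ne_top (top_le_iff.1 (e ▸ Ideal.pow_le_self (Nat.succ_ne_zero n)))
    haveI : Nontrivial (R ⧸ maximalIdeal R ^ (n + 1)) := Ideal.Quotient.nontrivial_iff.2 hne
    haveI hloc : IsLocalRing (R ⧸ maximalIdeal R ^ (n + 1)) :=
      .of_surjective' (Ideal.Quotient.mk _) Ideal.Quotient.mk_surjective
    refine ⟨hloc, ?_⟩
    haveI : IsArtinianRing (R ⧸ maximalIdeal R ^ (n + 1)) := by
      refine isArtinianRing_iff_isNilpotent_maximalIdeal _ |>.2 ⟨n + 1, ?_⟩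
      rw [← IsLocalRing.map_maximalIdeal_of_surjective _ (Ideal.Quotient.mk_surjective (I := maximalIdeal R ^ (n + 1))),
        ← Ideal.map_pow, Ideal.map_quotient_self]
      rfl
    haveI : Module.Finite k (ResidueField (R ⧸ maximalIdeal R ^ (n + 1))) := by
      refine Module.Finite.of_surjective (Algebra.linearMap k (ResidueField (R ⧸ maximalIdeal R ^ (n + 1)))) fun y => ?_
      obtain ⟨y, rfl⟩ := residue_surjective y
      obtain ⟨r, rfl⟩ := Ideal.Quotient.mk_surjective y
      obtain ⟨c, hc⟩ := hres (MvPowerSeries.constantCoeff r)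
      refine ⟨c, ?_⟩
      have hr : algebraMap k R c - r ∈ maximalIdeal R := by
        rw [mem_maximalIdeal, mem_nonunits_iff, MvPowerSeries.isUnit_iff_constantCoeff, map_sub,
          show algebraMap k R c = MvPowerSeries.C (algebraMap k K c) from MvPowerSeries.algebraMap_apply, MvPowerSeries.constantCoeff_C, hc]
        simp
      rw [Algebra.linearMap_apply, IsScalarTower.algebraMap_apply k (R ⧸ maximalIdeal R ^ (n + 1)),
        IsLocalRing.ResidueField.algebraMap_eq, ← sub_eq_zero, ← map_sub, residue_eq_zero_iff,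
        ← IsLocalRing.map_maximalIdeal_of_surjective _ (Ideal.Quotient.mk_surjective (I := maximalIdeal R ^ (n + 1)))]
      exact (map_sub (q (n + 1)) (algebraMap k R c) r) ▸ Ideal.mem_map_of_mem _ hr
    exact CommAlg6.finite_of_finite_residue_artinian k
  let fac : (n : ℕ) → (R ⧸ maximalIdeal R ^ (n + 3)) →ₐ[k] R ⧸ maximalIdeal R ^ (n + 2) := fun n =>
    Ideal.Quotient.factorₐ k (Ideal.pow_le_pow_right (Nat.le_succ (n + 2)))
  have step : ∀ (n : ℕ) (f : A →ₐ[k] R ⧸ maximalIdeal R ^ (n + 2)),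
      ∃ g : A →ₐ[k] R ⧸ maximalIdeal R ^ (n + 3), (fac n).comp g = f := by
    intro n f
    obtain ⟨_, _⟩ := hfin (n + 2)
    have hs : Function.Surjective (fac n) := Ideal.Quotient.factor_surjective (Ideal.pow_le_pow_right (Nat.le_succ (n + 2)))
    have hJ2 : RingHom.ker (fac n) ^ 2 = ⊥ := by
      rw [show RingHom.ker (fac n) = RingHom.ker (Ideal.Quotient.factor (Ideal.pow_le_pow_right (Nat.le_succ (n + 2)) :
        maximalIdeal R ^ (n + 3) ≤ maximalIdeal R ^ (n + 2))) from rfl, Ideal.Quotient.factor_ker, ← Ideal.map_pow,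
        ← pow_mul, Ideal.map_eq_bot_iff_le_ker, Ideal.mk_ker]
      exact Ideal.pow_le_pow_right (by omega)
    let e := Ideal.quotientKerAlgEquivOfSurjective hs
    obtain ⟨g, hg⟩ := h _ (RingHom.ker (fac n)) hJ2 (e.symm.toAlgHom.comp f)
    refine ⟨g, AlgHom.ext fun a => ?_⟩
    exact ((e.apply_symm_apply (f a)).symm.trans (congrArg e (AlgHom.congr_fun hg a).symm)).symm
  obtain ⟨χ, hχ⟩ : ∃ χ : A →+* R, (Ideal.Quotient.mk (maximalIdeal R ^ 2)).comp χ = ψ :=
    exists_lift_of_steps (maximalIdeal R) step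
      { toRingHom := ψ,
        commutes' := fun c => (RingHom.congr_fun hψk c).trans (congrArg (Ideal.Quotient.mk _) (MvPowerSeries.algebraMap_apply (σ := Fin d) (r := c)).symm) }
  have hχ' : ∀ a, Ideal.Quotient.mk (maximalIdeal R ^ 2) (χ a) = ψ a := RingHom.congr_fun hχ
  have hnle : ∀ r ∈ maximalIdeal R, ∃ a ∈ maximalIdeal A, χ a - r ∈ maximalIdeal R ^ 2 := fun r hr => by
    obtain ⟨a, ha⟩ := hψs (Ideal.Quotient.mk _ r)
    rw [← hχ'] at ha
    refine ⟨a, ?_, Ideal.Quotient.eq.mp ha⟩
    by_contra hu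
    have hua : IsUnit a := by
      by_contra hu'; exact hu hu'
    have h1 : χ a ∈ maximalIdeal R := by
      simpa using add_mem (Ideal.pow_le_self two_ne_zero (Ideal.Quotient.eq.mp ha)) hr
    exact h1 (hua.map χ)
  have hloc : (maximalIdeal A).map χ ≤ maximalIdeal R := Ideal.map_le_iff_le_comap.mpr fun a ha => by
    show χ a ∈ maximalIdeal R
    refine (maximalIdeal.isMaximal R).isPrime.mem_of_pow_mem 2 ?_
    rw [← map_pow]
    have h1 : ψ (a ^ 2) = 0 := by rw [← RingHom.mem_ker, hψker]; exact Ideal.pow_mem_pow ha 2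
    rw [← hχ', Ideal.Quotient.eq_zero_iff_mem] at h1
    exact Ideal.pow_le_self two_ne_zero h1
  haveI : IsNoetherianRing (EGA4.Cpl A) := Groth.Agent.Matlis6.isNoetherianRing_adicCompletion _
  let F : (n : ℕ) → EGA4.Cpl A →+* R ⧸ maximalIdeal R ^ n := fun n =>
    (Ideal.quotientMap (maximalIdeal R ^ n) χ (by
      rw [← Ideal.map_le_iff_le_comap, Ideal.map_pow]; exact Ideal.pow_right_mono hloc n)).comp
      (AdicCompletion.evalₐ (maximalIdeal A) n).toRingHom
  have hF : ∀ {i j : ℕ} (hij : i ≤ j), (Ideal.Quotient.factorPow (maximalIdeal R) hij).comp (F j) = F i := by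
    intro i j hij
    refine RingHom.ext fun x => ?_
    induction x using AdicCompletion.induction_on with
    | _ g =>
      simp only [F, RingHom.comp_apply, AlgHom.toRingHom_eq_coe, RingHom.coe_coe, AdicCompletion.evalₐ_mk]
      have := congrArg (Ideal.quotientMap (maximalIdeal R ^ i) χ (by
        rw [← Ideal.map_le_iff_le_comap, Ideal.map_pow]; exact Ideal.pow_right_mono hloc i))
        (AdicCompletion.Ideal.mk_eq_mk (maximalIdeal A) hij g)
      simpa [Ideal.quotientMap_mk] using this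
  let χh : EGA4.Cpl A →+* R := IsAdicComplete.liftRingHom (maximalIdeal R) F hF
  have hχh : ∀ a, χh (algebraMap A (EGA4.Cpl A) a) = χ a := fun a => by
    refine IsHausdorff.eq_iff_smodEq (I := maximalIdeal R).mpr fun n => ?_
    rw [SModEq.sub_mem, smul_eq_mul, Ideal.mul_top, ← Ideal.Quotient.eq]
    show Ideal.Quotient.mk _ (IsAdicComplete.liftRingHom _ F hF _) = _
    rw [IsAdicComplete.mk_liftRingHom]
    simp only [F, RingHom.comp_apply, AlgHom.toRingHom_eq_coe, RingHom.coe_coe]
    rfl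
  have hsurj : Function.Surjective χh := by
    refine CAlgH3.surjective_of_maximalIdeal_le χh ?_ (fun y => ?_) fun r hr => ?_
    · rw [AdicCompletion.maximalIdeal_eq_map, Ideal.map_map]
      refine le_of_eq_of_le (congrArg (fun f => Ideal.map f (maximalIdeal A)) (RingHom.ext hχh)) hloc
    · obtain ⟨r, rfl⟩ := residue_surjective y
      obtain ⟨a, ha⟩ := hψs (Ideal.Quotient.mk _ r)
      rw [← hχ'] at ha
      refine ⟨algebraMap A _ a, ?_⟩
      rw [RingHom.comp_apply, hχh, ← sub_eq_zero, ← map_sub, residue_eq_zero_iff]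
      exact Ideal.pow_le_self two_ne_zero (Ideal.Quotient.eq.mp ha)
    · obtain ⟨a, ha, har⟩ := hnle r hr
      refine Submodule.mem_sup.mpr ⟨χ a, ?_, r - χ a, by rw [← neg_sub]; exact neg_mem har, add_sub_cancel _ _⟩
      rw [← hχh]
      refine Ideal.mem_map_of_mem _ ?_
      rw [AdicCompletion.maximalIdeal_eq_map]
      exact Ideal.mem_map_of_mem _ ha
  refine IsRegularLocalRing.of_spanFinrank_maximalIdeal_le _ ?_
  rw [hd]
  calc (d : WithBot ℕ∞) ≤ ringKrullDim R := le_ringKrullDim_mvPowerSeries K d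
    _ ≤ ringKrullDim (EGA4.Cpl A) := ringKrullDim_le_of_surjective _ hsurj
    _ = ringKrullDim A := (Groth.Agent.S19474.result A _ (maximalIdeal.isMaximal A).ne_top).1

end Groth.Agent.Exal29
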