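import Groth.Prelude.Def_Exal
import Mathlib

/-!
# The middle ring of an extension by a simple module is Noetherian
-/

universe u v

noncomputable section

namespace Groth.Agent.Exal29

variable {A : Type u} {R L : Type v} [CommRing A] [CommRing R] [Algebra A R] [AddCommGroup L] [Module R L]

theorem isNoetherianRing_ext [IsNoetherianRing R] [IsSimpleModule R L] (X : Exal.Ext A R L) : IsNoetherianRing X.E := by
  classical
  refine ⟨fun (J : Ideal X.E) => ?_⟩
  obtain ⟨G, hG⟩ := IsNoetherian.noetherian (J.map X.proj)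
  have hlift : ∀ g ∈ G, ∃ x ∈ J, X.proj x = g := fun g hg =>
    (Ideal.mem_map_iff_of_surjective X.proj X.isExtension.proj_surjective).1 (by
      rw [← hG]; exact Submodule.subset_span hg)
  choose! w hwJ hw using hlift
  obtain ⟨z₀, hz₀⟩ : ∃ z₀ : L, z₀ ≠ 0 := (nontrivial_iff_exists_ne 0).1 (IsSimpleModule.nontrivial R L)
  have hker : ∀ y, X.proj y = 0 → ∃ e, y = e * X.incl z₀ := fun y hy => by
    obtain ⟨z, rfl⟩ := (X.isExtension.exact y).1 hy
    obtain ⟨r, rfl⟩ := IsSimpleModule.toSpanSingleton_surjective R hz₀ z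
    obtain ⟨e, rfl⟩ := X.isExtension.proj_surjective r
    exact ⟨e, by rw [X.isExtension.mul_incl]; rfl⟩
  have hred : ∀ x ∈ J, ∃ y, x - y ∈ Ideal.span (G.image w : Set X.E) ∧ X.proj y = 0 ∧ y ∈ J := by
    intro x hx
    have hx' : X.proj x ∈ Submodule.span R (G : Set R) := hG ▸ Ideal.mem_map_of_mem _ hx
    have hex : ∀ g ∈ Submodule.span R (G : Set R), ∃ s ∈ Ideal.span (G.image w : Set X.E), X.proj s = g := by
      intro g hg
      induction hg using Submodule.span_induction with
      | mem g hg => exact ⟨w g, Ideal.subset_span (Finset.mem_image_of_mem w hg), hw g hg⟩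
      | zero => exact ⟨0, zero_mem _, map_zero _⟩
      | add a b _ _ ha hb =>
        obtain ⟨s, hs, rfl⟩ := ha; obtain ⟨t, ht, rfl⟩ := hb
        exact ⟨s + t, add_mem hs ht, map_add _ _ _⟩
      | smul r a _ ha =>
        obtain ⟨s, hs, rfl⟩ := ha
        obtain ⟨e, rfl⟩ := X.isExtension.proj_surjective r
        exact ⟨e * s, Ideal.mul_mem_left _ _ hs, by rw [map_mul, smul_eq_mul]⟩
    obtain ⟨s, hs, hsx⟩ := hex _ hx'
    refine ⟨x - s, by rwa [sub_sub_cancel], by rw [map_sub, hsx, sub_self], sub_mem hx (Ideal.span_le.2 ?_ hs)⟩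
    intro y hy
    obtain ⟨g, hg, rfl⟩ := Finset.mem_image.1 hy
    exact hwJ g hg
  let extra : Finset X.E := if X.incl z₀ ∈ J then {X.incl z₀} else ∅
  refine ⟨G.image w ∪ extra, le_antisymm (Ideal.span_le.2 ?_) fun x hx => ?_⟩
  · intro y hy
    rcases Finset.mem_union.1 hy with hy | hy
    · obtain ⟨g, hg, rfl⟩ := Finset.mem_image.1 hy
      exact hwJ g hg
    · by_cases h : X.incl z₀ ∈ J <;> simp [extra, h] at hy
      exact hy ▸ h
  · obtain ⟨y, hy, hy0, hyJ⟩ := hred x hx
    have hle : Ideal.span (G.image w : Set X.E) ≤ Ideal.span ((G.image w ∪ extra : Finset X.E) : Set X.E) :=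
      Ideal.span_mono (by simp)
    rw [← sub_add_cancel x y]
    refine add_mem (hle hy) ?_
    by_cases h : X.incl z₀ ∈ J
    · obtain ⟨e, rfl⟩ := hker y hy0
      exact Ideal.mul_mem_left _ _ (Ideal.subset_span (by simp [extra, h]))
    · obtain ⟨z, rfl⟩ := (X.isExtension.exact y).1 hy0
      rcases eq_or_ne z 0 with rfl | hz
      · rw [map_zero]; exact zero_mem _
      · exfalso
        obtain ⟨r, hr⟩ := IsSimpleModule.toSpanSingleton_surjective R hz z₀
        obtain ⟨e, rfl⟩ := X.isExtension.proj_surjective r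
        refine h ?_
        have := J.mul_mem_left e hyJ
        rw [X.isExtension.mul_incl] at this
        exact hr ▸ this

end Groth.Agent.Exal29
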