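import Groth.Prelude.Def_Exal
import Mathlib

/-!
# Truncation of extensions by modules killed by an ideal
-/

universe u v

noncomputable section

namespace Groth.Agent.Exal29

variable {A : Type u} {R L : Type v} [CommRing A] [CommRing R] [Algebra A R] [AddCommGroup L] [Module R L]

/-- The preimage of an ideal in the middle ring of an extension. -/
def big (X : Exal.Ext A R L) (m : Ideal R) : Ideal X.E := m.comap X.proj

theorem map_big (X : Exal.Ext A R L) (m : Ideal R) : (big X m).map X.proj = m :=
  Ideal.map_comap_of_surjective _ X.isExtension.proj_surjective m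

theorem map_big_pow (X : Exal.Ext A R L) (m : Ideal R) (j : ℕ) : ((big X m) ^ j).map X.proj = m ^ j := by
  rw [Ideal.map_pow, map_big]

theorem proj_incl (X : Exal.Ext A R L) (z : L) : X.proj (X.incl z) = 0 :=
  (X.isExtension.exact _).2 ⟨z, rfl⟩

theorem mul_congr_of_kills' (X : Exal.Ext A R L) {a y y' : X.E} (ha : ∀ z : L, X.proj a • z = 0)
    (h : X.proj y = X.proj y') : a * y = a * y' := by
  obtain ⟨z, hz⟩ := (X.isExtension.exact (y - y')).1 (by rw [map_sub, h, sub_self])
  rw [← sub_eq_zero, ← mul_sub, ← hz, X.isExtension.mul_incl, ha, map_zero]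

/-- For a Noetherian ring and a module killed by `m` some fixed power of the preimage of `m` meets the kernel of
every extension only in `0`. -/
theorem exists_uniform [IsNoetherianRing R] (m : Ideal R) (hL : ∀ r ∈ m, ∀ z : L, r • z = 0) :
    ∃ n : ℕ, ∀ (X : Exal.Ext A R L) (N : ℕ), n ≤ N → ∀ x ∈ (big X m) ^ (N + 1), X.proj x = 0 → x = 0 := by
  classical
  obtain ⟨S, hS⟩ := IsNoetherian.noetherian m
  let a : S → R := fun i => (i : R)
  have ha : Submodule.span R (Set.range a) = m := by
    rw [show Set.range a = ↑S from Subtype.range_coe]; exact hS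
  let Z : Submodule R (S → R) := LinearMap.ker (Fintype.linearCombination R a)
  obtain ⟨k, hk⟩ := Ideal.exists_pow_inf_eq_pow_smul m Z
  refine ⟨k + 1, fun X N hN x hx hx0 => ?_⟩
  choose sec hsec using X.isExtension.proj_surjective
  have hkill : ∀ (r : X.E), X.proj r ∈ m → ∀ z : L, X.proj r • z = 0 := fun r hr z => hL _ hr z
  have hmem : ∀ i, a i ∈ m := fun i => ha ▸ Submodule.subset_span ⟨i, rfl⟩
  have hlift : ∀ (y y' : S → X.E), (∀ i, X.proj (y i) = X.proj (y' i)) →
      ∑ i, sec (a i) * y i = ∑ i, sec (a i) * y' i := fun y y' h => Finset.sum_congr rfl fun i _ =>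
    mul_congr_of_kills' X (hkill _ (by rw [hsec]; exact hmem i)) (h i)
  have hM : ∀ x ∈ big X m * (big X m) ^ N, ∃ c : S → X.E, (∀ i, c i ∈ (big X m) ^ N) ∧ x = ∑ i, sec (a i) * c i := by
    intro x hx
    induction hx using Submodule.mul_induction_on' with
    | mem_mul_mem p hp q hq =>
      obtain ⟨e, he⟩ := (Submodule.mem_span_range_iff_exists_fun R).1
        (show X.proj p ∈ Submodule.span R (Set.range a) by rw [ha]; exact hp)
      obtain ⟨w, hw⟩ := (X.isExtension.exact (p - ∑ i, sec (e i) * sec (a i))).1 (by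
        rw [map_sub, map_sum, ← he, sub_eq_zero]
        exact Finset.sum_congr rfl fun i _ => by rw [map_mul, hsec, hsec, smul_eq_mul])
      refine ⟨fun i => sec (e i) * q, fun i => Ideal.mul_mem_left _ _ hq, ?_⟩
      have hq' : X.proj q ∈ m := by
        have : q ∈ big X m := Ideal.pow_le_self (by omega) hq
        exact this
      have h0 : X.incl w * q = 0 := by
        rw [mul_comm, X.isExtension.mul_incl, hkill q hq', map_zero]
      rw [eq_sub_iff_add_eq] at hw
      rw [← hw, add_mul, h0, zero_add, Finset.sum_mul]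
      exact Finset.sum_congr rfl fun i _ => by ring
    | add p _ q _ hp hq =>
      obtain ⟨c, hc, rfl⟩ := hp
      obtain ⟨d, hd, rfl⟩ := hq
      exact ⟨c + d, fun i => add_mem (hc i) (hd i), by simp only [Pi.add_apply, mul_add, Finset.sum_add_distrib]⟩
  obtain ⟨c, hc, rfl⟩ := hM x (pow_succ' (big X m) N ▸ hx)
  let c' : S → R := fun i => X.proj (c i)
  have hcZ : c' ∈ Z := by
    show Fintype.linearCombination R a c' = 0
    rw [Fintype.linearCombination_apply, ← hx0, map_sum]
    exact Finset.sum_congr rfl fun i _ => by rw [map_mul, hsec, smul_eq_mul, mul_comm]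
  have hctop : c' ∈ (m ^ N • ⊤ : Submodule R (S → R)) := by
    rw [pi_eq_sum_univ c']
    refine Submodule.sum_mem _ fun i _ => Submodule.smul_mem_smul ?_ Submodule.mem_top
    rw [← map_big_pow X m N]
    exact Ideal.mem_map_of_mem _ (hc i)
  have hcm : c' ∈ (m • Z : Submodule R (S → R)) := by
    have h : c' ∈ (m ^ N • ⊤ : Submodule R (S → R)) ⊓ Z := ⟨hctop, hcZ⟩
    rw [hk N (by omega)] at h
    exact Submodule.smul_mono (Ideal.pow_le_self (by omega)) inf_le_right h
  have key : ∀ w ∈ (m • Z : Submodule R (S → R)), ∀ y : S → X.E, (∀ i, X.proj (y i) = w i) →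
      ∑ i, sec (a i) * y i = 0 := by
    intro w hw
    induction hw using Submodule.smul_induction_on' with
    | smul r hr v hv =>
      intro y hy
      rw [hlift y (fun i => sec r * sec (v i)) (fun i => by rw [hy, map_mul, hsec, hsec]; rfl)]
      obtain ⟨u, hu⟩ := (X.isExtension.exact (∑ i, sec (a i) * sec (v i))).1 (by
        rw [map_sum, ← show Fintype.linearCombination R a v = 0 from hv, Fintype.linearCombination_apply]
        exact Finset.sum_congr rfl fun i _ => by rw [map_mul, hsec, hsec, smul_eq_mul, mul_comm])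
      rw [Finset.sum_congr rfl fun i _ => show sec (a i) * (sec r * sec (v i)) = sec r * (sec (a i) * sec (v i)) by ring,
        ← Finset.mul_sum, ← hu, X.isExtension.mul_incl, hkill _ (by rw [hsec]; exact hr), map_zero]
    | add v _ w _ hv hw =>
      intro y hy
      rw [hlift y (fun i => sec (v i) + sec (w i)) (fun i => by rw [hy, map_add, hsec, hsec]; rfl)]
      simp only [mul_add, Finset.sum_add_distrib]
      rw [hv _ (fun i => hsec _), hw _ (fun i => hsec _), add_zero]
  exact key c' hcm c fun i => rfl

end Groth.Agent.Exal29
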