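import Groth.Prelude.Def_Exal2
import Groth.Agent.Exal29.Truncation
import Mathlib

/-!
# Injectivity of the inverse image of extensions along a map which is an isomorphism modulo powers
-/

universe u v

noncomputable section

namespace Groth.Agent.Exal29

variable {A : Type u} {R R' L : Type v} [CommRing A] [CommRing R] [CommRing R'] [Algebra A R] [Algebra A R']
  [Algebra R R'] [IsScalarTower A R R'] [AddCommGroup L] [Module R' L] [Module R L] [IsScalarTower R R' L]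

/-- An equivalence of inverse images gives an equivalence of extensions, when `R → R'` is an isomorphism modulo the
`(n+1)`-st power of `m` and this power of the preimage of `m` meets the kernels trivially. -/
theorem nonempty_equiv_of_pullback (m : Ideal R) (n : ℕ)
    (hsurj : ∀ x : R', ∃ r, x - algebraMap R R' r ∈ (m.map (algebraMap R R')) ^ (n + 1))
    (hcomap : ∀ r, algebraMap R R' r ∈ (m.map (algebraMap R R')) ^ (n + 1) → r ∈ m ^ (n + 1))
    (hdis : ∀ X : Exal.Ext A R' L, ∀ x ∈ (big X (m.map (algebraMap R R'))) ^ (n + 1), X.proj x = 0 → x = 0)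
    (X X' : Exal.Ext A R' L) (φ : Exal.Ext.Equiv (X.pullback R) (X'.pullback R)) : Nonempty (X.Equiv X') := by
  classical
  let mh := m.map (algebraMap R R')
  let fst : ∀ (Z : Exal.Ext A R' L), (Z.pullback R).E →ₐ[A] Z.E := fun Z =>
    (AlgHom.fst A Z.E R).comp (Z.fiberProd R).val
  have hproj : ∀ (Z : Exal.Ext A R' L) (p : (Z.pullback R).E), Z.proj (fst Z p) = algebraMap R R' ((Z.pullback R).proj p) :=
    fun Z p => p.2
  have hbig : ∀ (Z : Exal.Ext A R' L) (p : (Z.pullback R).E), p ∈ (big (Z.pullback R) m) ^ (n + 1) →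
      fst Z p ∈ (big Z mh) ^ (n + 1) := by
    intro Z p hp
    refine Ideal.pow_right_mono (Ideal.map_le_iff_le_comap.2 fun q hq => ?_) (n + 1)
      (Ideal.map_pow (fst Z) _ (n + 1) ▸ Ideal.mem_map_of_mem (fst Z) hp)
    show Z.proj (fst Z q) ∈ mh
    rw [hproj]
    exact Ideal.mem_map_of_mem _ hq
  have hrep : ∀ (Z : Exal.Ext A R' L) (x : Z.E), ∃ p : (Z.pullback R).E, fst Z p - x ∈ (big Z mh) ^ (n + 1) := by
    intro Z x
    obtain ⟨r, hr⟩ := hsurj (Z.proj x)
    obtain ⟨y, hy, hyx⟩ := (Ideal.mem_map_iff_of_surjective Z.proj Z.isExtension.proj_surjective).1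
      ((map_big_pow Z mh (n + 1)).symm ▸ hr)
    refine ⟨⟨(x - y, r), ?_⟩, ?_⟩
    · show Z.proj (x - y) = algebraMap R R' r
      rw [map_sub, hyx, sub_sub_cancel]
    · show x - y - x ∈ _
      rw [sub_sub_cancel_left]
      exact neg_mem hy
  have hker : ∀ (Z : Exal.Ext A R' L) (p : (Z.pullback R).E), fst Z p ∈ (big Z mh) ^ (n + 1) →
      p ∈ (big (Z.pullback R) m) ^ (n + 1) := by
    intro Z p hp
    have h1 : (Z.pullback R).proj p ∈ m ^ (n + 1) := by
      refine hcomap _ ?_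
      rw [← hproj, ← map_big_pow Z mh (n + 1)]
      exact Ideal.mem_map_of_mem _ hp
    obtain ⟨q, hq, hqp⟩ := (Ideal.mem_map_iff_of_surjective (Z.pullback R).proj
      (Z.pullback R).isExtension.proj_surjective).1 ((map_big_pow (Z.pullback R) m (n + 1)).symm ▸ h1)
    obtain ⟨z, hz⟩ := ((Z.pullback R).isExtension.exact (p - q)).1 (by rw [map_sub, hqp, sub_self])
    have h2 : fst Z (p - q) = 0 := by
      refine hdis Z _ (by rw [map_sub]; exact sub_mem hp (hbig Z q hq)) ?_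
      rw [hproj, map_sub, hqp, sub_self, map_zero]
    rw [← hz] at h2
    have h3 : z = 0 := Z.isExtension.incl_injective (h2.trans (map_zero Z.incl).symm)
    rw [h3, map_zero] at hz
    rw [show p = q from sub_eq_zero.1 hz.symm]
    exact hq
  have htransport : ∀ (Z Z' : Exal.Ext A R' L) (ψ : Exal.Ext.Equiv (Z.pullback R) (Z'.pullback R)) p q,
      fst Z p - fst Z q ∈ (big Z mh) ^ (n + 1) →
        fst Z' (ψ.toAlgEquiv p) - fst Z' (ψ.toAlgEquiv q) ∈ (big Z' mh) ^ (n + 1) := by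
    intro Z Z' ψ p q hpq
    rw [← map_sub, ← map_sub]
    refine hbig Z' _ ?_
    rw [← map_sub] at hpq
    have h := Ideal.mem_map_of_mem ψ.toAlgEquiv.toAlgHom (hker Z _ hpq)
    rw [Ideal.map_pow] at h
    refine Ideal.pow_right_mono (Ideal.map_le_iff_le_comap.2 fun y hy => ?_) (n + 1) h
    show (Z'.pullback R).proj (ψ.toAlgEquiv y) ∈ m
    rw [ψ.proj_apply]
    exact hy
  have hG : ∀ (Z Z' : Exal.Ext A R' L) (ψ : Exal.Ext.Equiv (Z.pullback R) (Z'.pullback R)) (x : Z.E),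
      ∃ x' : Z'.E, Z'.proj x' = Z.proj x ∧
        ∀ p, fst Z p - x ∈ (big Z mh) ^ (n + 1) → fst Z' (ψ.toAlgEquiv p) - x' ∈ (big Z' mh) ^ (n + 1) := by
    intro Z Z' ψ x
    obtain ⟨p, hp⟩ := hrep Z x
    have h1 : Z.proj x - Z'.proj (fst Z' (ψ.toAlgEquiv p)) ∈ mh ^ (n + 1) := by
      rw [hproj, ψ.proj_apply, ← hproj, ← map_sub, ← map_big_pow Z mh (n + 1)]
      refine Ideal.mem_map_of_mem _ ?_
      rw [← neg_sub]
      exact neg_mem hp
    obtain ⟨y, hy, hy'⟩ := (Ideal.mem_map_iff_of_surjective Z'.proj Z'.isExtension.proj_surjective).1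
      ((map_big_pow Z' mh (n + 1)).symm ▸ h1)
    refine ⟨fst Z' (ψ.toAlgEquiv p) + y, by rw [map_add, hy', add_sub_cancel], fun q hq => ?_⟩
    have := htransport Z Z' ψ q p (by have := sub_mem hq hp; rwa [sub_sub_sub_cancel_right] at this)
    rw [← sub_sub]
    exact sub_mem this hy
  choose G hG1 hG2 using hG
  have uniq : ∀ (Z : Exal.Ext A R' L) (x y : Z.E), Z.proj x = Z.proj y → x - y ∈ (big Z mh) ^ (n + 1) → x = y :=
    fun Z x y h1 h2 => sub_eq_zero.1 (hdis Z _ h2 (by rw [map_sub, h1, sub_self]))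
  have spec : ∀ (Z Z' : Exal.Ext A R' L) (ψ : Exal.Ext.Equiv (Z.pullback R) (Z'.pullback R)) (x : Z.E) (x' : Z'.E) p,
      fst Z p - x ∈ (big Z mh) ^ (n + 1) → fst Z' (ψ.toAlgEquiv p) - x' ∈ (big Z' mh) ^ (n + 1) →
      Z'.proj x' = Z.proj x → G Z Z' ψ x = x' := by
    intro Z Z' ψ x x' p hp hp' hx
    refine uniq Z' _ _ ((hG1 Z Z' ψ x).trans hx.symm) ?_
    have := sub_mem hp' (hG2 Z Z' ψ x p hp)
    rwa [sub_sub_sub_cancel_left] at this
  have hadd : ∀ (Z Z' : Exal.Ext A R' L) ψ (x y : Z.E), G Z Z' ψ (x + y) = G Z Z' ψ x + G Z Z' ψ y := by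
    intro Z Z' ψ x y
    obtain ⟨p, hp⟩ := hrep Z x
    obtain ⟨q, hq⟩ := hrep Z y
    refine spec Z Z' ψ _ _ (p + q) ?_ ?_ (by rw [map_add, hG1, hG1, map_add])
    · rw [map_add, add_sub_add_comm]; exact add_mem hp hq
    · rw [map_add, map_add, add_sub_add_comm]; exact add_mem (hG2 _ _ _ _ _ hp) (hG2 _ _ _ _ _ hq)
  have hmul : ∀ (Z Z' : Exal.Ext A R' L) ψ (x y : Z.E), G Z Z' ψ (x * y) = G Z Z' ψ x * G Z Z' ψ y := by
    intro Z Z' ψ x y
    obtain ⟨p, hp⟩ := hrep Z x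
    obtain ⟨q, hq⟩ := hrep Z y
    refine spec Z Z' ψ _ _ (p * q) ?_ ?_ (by rw [map_mul, hG1, hG1, map_mul])
    · rw [map_mul, show fst Z p * fst Z q - x * y = (fst Z p - x) * fst Z q + x * (fst Z q - y) by ring]
      exact add_mem (Ideal.mul_mem_right _ _ hp) (Ideal.mul_mem_left _ _ hq)
    · rw [map_mul, map_mul, show fst Z' (ψ.toAlgEquiv p) * fst Z' (ψ.toAlgEquiv q) - G Z Z' ψ x * G Z Z' ψ y =
        (fst Z' (ψ.toAlgEquiv p) - G Z Z' ψ x) * fst Z' (ψ.toAlgEquiv q) +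
          G Z Z' ψ x * (fst Z' (ψ.toAlgEquiv q) - G Z Z' ψ y) by ring]
      exact add_mem (Ideal.mul_mem_right _ _ (hG2 _ _ _ _ _ hp)) (Ideal.mul_mem_left _ _ (hG2 _ _ _ _ _ hq))
  have hinv : ∀ (Z Z' : Exal.Ext A R' L) ψ (x : Z.E), G Z' Z ψ.symm (G Z Z' ψ x) = x := by
    intro Z Z' ψ x
    obtain ⟨p, hp⟩ := hrep Z x
    refine spec Z' Z ψ.symm _ _ (ψ.toAlgEquiv p) (hG2 _ _ _ _ _ hp) ?_ (hG1 Z Z' ψ x).symm
    rw [show ψ.symm.toAlgEquiv (ψ.toAlgEquiv p) = p from ψ.toAlgEquiv.symm_apply_apply p]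
    exact hp
  refine ⟨{
    toAlgEquiv :=
      { toFun := G X X' φ
        invFun := G X' X φ.symm
        left_inv := hinv X X' φ
        right_inv := hinv X' X φ.symm
        map_mul' := hmul X X' φ
        map_add' := hadd X X' φ
        commutes' := fun a => spec X X' φ _ _ (algebraMap A _ a) (by rw [AlgHom.commutes, sub_self]; exact zero_mem _)
          (by rw [AlgEquiv.commutes, AlgHom.commutes, sub_self]; exact zero_mem _) (by rw [AlgHom.commutes, AlgHom.commutes]) }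
    proj_apply := hG1 X X' φ
    apply_incl := fun z => spec X X' φ _ _ ((X.pullback R).incl z) ?_ ?_ ?_ }⟩
  · show X.incl z - X.incl z ∈ _
    rw [sub_self]; exact zero_mem _
  · rw [φ.apply_incl]
    show X'.incl z - X'.incl z ∈ _
    rw [sub_self]; exact zero_mem _
  · rw [proj_incl, proj_incl]

end Groth.Agent.Exal29
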